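import Groth.Agent.UH.Basic
import Groth.Prelude.Def_CAlg2
import Mathlib.RingTheory.Localization.Integral
import Mathlib.RingTheory.Localization.LocalizationLocalization
import Mathlib.Algebra.CharP.Reduced

/-!
Over a geometrically unibranch localisation, maps from the integral closure into a field are
determined by their restriction to the ring.
-/

set_option autoImplicit false

universe u

namespace Groth.Agent.UH

theorem eq_of_isGeomUnibranch {A R L : Type u} [CommRing A] [IsDomain A] (K : Type u) [Field K]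
    [Algebra A K] [IsFractionRing A K] (p : Ideal A) [p.IsPrime] [CommRing R] [Algebra A R]
    [IsLocalization.AtPrime R p] [IsLocalRing R] (hR : CAlg2.IsGeomUnibranch R) [Field L]
    (g₁ g₂ : integralClosure A K →+* L)
    (hg : g₁.comp (algebraMap A (integralClosure A K)) = g₂.comp (algebraMap A (integralClosure A K)))
    (hker : RingHom.ker (g₁.comp (algebraMap A (integralClosure A K))) = p) : g₁ = g₂ := by
  obtain ⟨⟨hdom, hloc⟩, hpi⟩ := hR
  have : IsDomain R := IsLocalization.isDomain_of_le_nonZeroDivisors R p.primeCompl_le_nonZeroDivisors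
  let Q := CAlg2.red R
  have : IsDomain Q := hdom
  let qe : R ≃ₐ[A] Q := AlgEquiv.ofBijective (Ideal.Quotient.mkₐ A (nilradical R))
    ⟨fun a b h => by
      have h' : a - b ∈ nilradical R := Ideal.Quotient.eq.mp h
      rw [nilradical_eq_zero, Ideal.zero_eq_bot, Ideal.mem_bot, sub_eq_zero] at h'
      exact h', Ideal.Quotient.mk_surjective⟩
  have : IsLocalization.AtPrime Q p := IsLocalization.isLocalization_of_algEquiv p.primeCompl qe
  have hunit : ∀ s : p.primeCompl, IsUnit (algebraMap A K s) := fun s =>
    isUnit_iff_ne_zero.mpr fun h => s.2 (by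
      rw [IsFractionRing.injective A K (h.trans (map_zero _).symm)]; exact p.zero_mem)
  let : Algebra Q K := (IsLocalization.lift (M := p.primeCompl) (S := Q) hunit).toAlgebra
  have : IsScalarTower A Q K := IsScalarTower.of_algebraMap_eq fun a =>
    (IsLocalization.lift_eq (M := p.primeCompl) (S := Q) hunit a).symm
  have : IsFractionRing Q K :=
    IsFractionRing.isFractionRing_of_isDomain_of_isLocalization p.primeCompl Q K
  let N := integralClosure Q K
  let eN : CAlg2.normRed R ≃ₐ[Q] N := (FractionRing.algEquiv Q K).mapIntegralClosure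
  have : IsLocalRing (CAlg2.normRed R) := hloc
  have : IsLocalRing N := eN.toRingEquiv.isLocalRing
  let A' := integralClosure A K
  let ι : A' →+* N :=
    { toFun := fun x => ⟨x.1, IsIntegral.tower_top x.2⟩
      map_one' := rfl
      map_mul' := fun _ _ => rfl
      map_zero' := rfl
      map_add' := fun _ _ => rfl }
  let : Algebra A' N := ι.toAlgebra
  have hι : ∀ a : A, ι (algebraMap A A' a) = algebraMap Q N (algebraMap A Q a) := fun a =>
    Subtype.ext (IsScalarTower.algebraMap_apply A Q K a)
  let M : Submonoid A' := p.primeCompl.map (algebraMap A A')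
  have : IsLocalization M N := by
    refine ⟨⟨?_, fun n => ?_, fun {x y} h => ⟨1, ?_⟩⟩⟩
    · rintro ⟨_, s, hs, rfl⟩
      change IsUnit (ι (algebraMap A A' s))
      rw [hι]
      exact (IsLocalization.map_units Q (⟨s, hs⟩ : p.primeCompl)).map _
    · obtain ⟨⟨s, hs⟩, hsn⟩ :=
        IsIntegral.exists_multiple_integral_of_isLocalization p.primeCompl n.1 n.2
      refine ⟨⟨⟨_, hsn⟩, _, s, hs, rfl⟩, Subtype.ext ?_⟩
      change n.1 * algebraMap A K s = s • n.1
      rw [Algebra.smul_def, mul_comm]
    · have h₀ : ι x = ι y := h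
      have h' : x.1 = y.1 := congrArg (fun z : N => z.1) h₀
      simpa using Subtype.ext h'
  have hM : ∀ g : A' →+* L, RingHom.ker (g.comp (algebraMap A A')) = p →
      ∀ m : M, IsUnit (g m) := by
    rintro g hgk ⟨_, s, hs, rfl⟩
    refine isUnit_iff_ne_zero.mpr fun h => hs ?_
    show s ∈ p
    rw [← hgk]; exact h
  have hker₂ : RingHom.ker (g₂.comp (algebraMap A A')) = p := hg ▸ hker
  let G₁ : N →+* L := IsLocalization.lift (hM g₁ hker)
  let G₂ : N →+* L := IsLocalization.lift (hM g₂ hker₂)
  have hA : ∀ (g : A' →+* L) (hgk : RingHom.ker (g.comp (algebraMap A A')) = p) (a : A),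
      IsLocalization.lift (S := N) (hM g hgk) (algebraMap Q N (algebraMap A Q a)) =
        g (algebraMap A A' a) := fun g hgk a => by
    rw [← hι]; exact IsLocalization.lift_eq (hM g hgk) _
  have hQ : G₁.comp (algebraMap Q N) = G₂.comp (algebraMap Q N) :=
    IsLocalization.ringHom_ext p.primeCompl (RingHom.ext fun a =>
      (hA g₁ hker a).trans ((DFunLike.congr_fun hg a).trans (hA g₂ hker₂ a).symm))
  have : Algebra.IsIntegral Q N := integralClosure.AlgebraIsIntegral
  have hmax : ∀ G : N →+* L, (∀ a : A, G (algebraMap Q N (algebraMap A Q a)) = g₁ (algebraMap A A' a)) →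
      RingHom.ker G = IsLocalRing.maximalIdeal N := by
    intro G hG
    refine IsLocalRing.eq_maximalIdeal ?_
    have : (RingHom.ker G).IsPrime := RingHom.ker_isPrime G
    refine Ideal.isMaximal_of_isIntegral_of_isMaximal_comap (R := Q) _ ?_
    let P : Ideal Q := (RingHom.ker G).comap (algebraMap Q N)
    have hP : P.comap (algebraMap A Q) = p := by
      rw [← hker]; ext a
      change G (algebraMap Q N (algebraMap A Q a)) = 0 ↔ g₁ (algebraMap A A' a) = 0
      rw [hG a]
    have : IsLocalRing Q := IsLocalization.AtPrime.isLocalRing Q p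
    have : P = IsLocalRing.maximalIdeal Q := by
      change P.under A = p at hP
      rw [← IsLocalization.map_comap p.primeCompl Q P, hP,
        IsLocalization.AtPrime.map_eq_maximalIdeal p Q]
    rw [show (RingHom.ker G).comap (algebraMap Q N) = P from rfl, this]
    exact IsLocalRing.maximalIdeal.isMaximal Q
  have k₁ : RingHom.ker G₁ = IsLocalRing.maximalIdeal N := hmax G₁ (hA g₁ hker)
  have k₂ : RingHom.ker G₂ = IsLocalRing.maximalIdeal N := hmax G₂ fun a => by
    rw [hA g₂ hker₂]; exact (DFunLike.congr_fun hg a).symm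
  have hG : G₁ = G₂ := by
    refine RingHom.ext fun n => ?_
    let m' : Ideal (CAlg2.normRed R) := IsLocalRing.maximalIdeal (CAlg2.normRed R)
    have hm' : ∀ G : N →+* L, RingHom.ker G = IsLocalRing.maximalIdeal N →
        ∀ z ∈ m', G (eN z) = 0 := fun G hk z hz => by
      rw [← RingHom.mem_ker, hk, IsLocalRing.mem_maximalIdeal]
      exact fun h => (IsLocalRing.mem_maximalIdeal _).mp hz ((MulEquiv.isUnit_map eN).mp h)
    let bar : ∀ G : N →+* L, RingHom.ker G = IsLocalRing.maximalIdeal N →
        (CAlg2.normRed R ⧸ m' →+* L) := fun G hk =>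
      Ideal.Quotient.lift m' (G.comp eN.toRingEquiv.toRingHom) fun z hz => hm' G hk z hz
    obtain ⟨k, r, hr⟩ := hpi m' (Ideal.Quotient.mk m' (eN.symm n))
    let : Field (CAlg2.normRed R ⧸ m') := Ideal.Quotient.field m'
    have : ExpChar (CAlg2.normRed R ⧸ m') (ringExpChar (CAlg2.normRed R ⧸ m')) := inferInstance
    have : ExpChar L (ringExpChar (CAlg2.normRed R ⧸ m')) :=
      expChar_of_injective_ringHom (bar G₁ k₁).injective _
    have e₁ : ∀ (G : N →+* L) (hk : RingHom.ker G = IsLocalRing.maximalIdeal N),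
        G n = bar G hk (Ideal.Quotient.mk m' (eN.symm n)) := fun G hk => by
      show G n = G (eN (eN.symm n))
      rw [eN.apply_symm_apply]
    have e₂ : ∀ (G : N →+* L) (hk : RingHom.ker G = IsLocalRing.maximalIdeal N),
        G (algebraMap Q N (Ideal.Quotient.mk (nilradical R) r)) =
          bar G hk (Ideal.Quotient.mk m' (algebraMap Q (CAlg2.normRed R)
            (Ideal.Quotient.mk (nilradical R) r))) := fun G hk =>
      congrArg G (eN.commutes (Ideal.Quotient.mk (nilradical R) r)).symm
    apply iterateFrobenius_inj L (ringExpChar (CAlg2.normRed R ⧸ m')) k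
    rw [iterateFrobenius_def, iterateFrobenius_def, e₁ G₁ k₁, e₁ G₂ k₂,
      ← map_pow (bar G₁ k₁), ← map_pow (bar G₂ k₂), ← hr]
    exact (e₂ G₁ k₁).symm.trans ((DFunLike.congr_fun hQ _).trans (e₂ G₂ k₂))
  refine RingHom.ext fun x => ?_
  have h1 : G₁ (ι x) = g₁ x := IsLocalization.lift_eq (hM g₁ hker) x
  have h2 : G₂ (ι x) = g₂ x := IsLocalization.lift_eq (hM g₂ hker₂) x
  rw [← h1, ← h2, hG]

end Groth.Agent.UH
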