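import Groth.Agent.WN.Closed
import Groth.Agent.WN.Normalization
import Groth.Agent.WN.Local
import Mathlib.RingTheory.Adjoin.Basic
import Mathlib.Algebra.CharP.Lemmas

/-!
Generators and elementary steps for ring maps inducing universal homeomorphisms on spectra.
-/

set_option autoImplicit false

universe u

open CategoryTheory AlgebraicGeometry

namespace Groth.Agent.UH

open Groth.Agent.WN

section Residue

variable {A B : Type u} [CommRing A] [CommRing B]

/-- Surjectivity of all residue field maps is triviality of all residue extensions. -/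
theorem surjective_residueFieldMap_iff (φ : A →+* B) :
    (∀ x : Spec (CommRingCat.of B),
      Function.Surjective ((Spec.map (CommRingCat.ofHom φ)).residueFieldMap x)) ↔ HasTrivRes φ := by
  rw [← residueFieldsIso_specMap_iff]
  refine forall_congr' fun x => ?_
  rw [ConcreteCategory.isIso_iff_bijective]
  exact ⟨fun h => ⟨RingHom.injective _, h⟩, fun h => h.2⟩

theorem surjective_residueFieldMap_iff' {R S : CommRingCat.{u}} (φ : R ⟶ S) :
    (∀ x : Spec S, Function.Surjective ((Spec.map φ).residueFieldMap x)) ↔ HasTrivRes φ.hom :=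
  surjective_residueFieldMap_iff φ.hom

theorem isUnivHomeo_specMap_iff' {R S : CommRingCat.{u}} (φ : R ⟶ S) :
    FlatMor.IsUnivHomeo (Spec.map φ) ↔ IsRadHomeo φ.hom :=
  isUnivHomeo_specMap_iff φ.hom

end Residue

variable {A B : Type u} [CommRing A] [CommRing B] [Algebra A B]

/-- Elements whose residue at `q` is a fraction from the base. -/
def fracSub (q : Ideal B) [q.IsPrime] : Subalgebra A B where
  carrier := {b | ∃ a s : A, algebraMap A B s ∉ q ∧ algebraMap A B s * b - algebraMap A B a ∈ q}
  mul_mem' := by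
    rintro b b' ⟨a, s, hs, hb⟩ ⟨a', s', hs', hb'⟩
    refine ⟨a * a', s * s', ?_, ?_⟩
    · rw [map_mul]; exact fun h => (Ideal.IsPrime.mem_or_mem ‹_› h).elim hs hs'
    · have := add_mem (q.mul_mem_left (algebraMap A B s * b) hb')
        (q.mul_mem_left (algebraMap A B a') hb)
      convert this using 1
      simp only [map_mul]; ring
  add_mem' := by
    rintro b b' ⟨a, s, hs, hb⟩ ⟨a', s', hs', hb'⟩
    refine ⟨a * s' + a' * s, s * s', ?_, ?_⟩
    · rw [map_mul]; exact fun h => (Ideal.IsPrime.mem_or_mem ‹_› h).elim hs hs'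
    · have := add_mem (q.mul_mem_left (algebraMap A B s') hb)
        (q.mul_mem_left (algebraMap A B s) hb')
      convert this using 1
      simp only [map_mul, map_add]; ring
  algebraMap_mem' a := ⟨a, 1, by rw [map_one]; exact fun h => Ideal.IsPrime.ne_top ‹_› (q.eq_top_iff_one.mpr h),
    by rw [map_one, one_mul, sub_self]; exact q.zero_mem⟩

theorem mem_fracSub {q : Ideal B} [q.IsPrime] {b : B} :
    b ∈ fracSub (A := A) q ↔
      ∃ a s : A, algebraMap A B s ∉ q ∧ algebraMap A B s * b - algebraMap A B a ∈ q := Iff.rfl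

theorem mem_fracSub_of_sq_cube {q : Ideal B} [q.IsPrime] {b : B} (h2 : b ^ 2 ∈ fracSub (A := A) q)
    (h3 : b ^ 3 ∈ fracSub (A := A) q) : b ∈ fracSub (A := A) q := by
  by_cases hb : b ∈ q
  · exact ⟨0, 1, by rw [map_one]; exact fun h => Ideal.IsPrime.ne_top ‹_› (q.eq_top_iff_one.mpr h),
      by rw [map_one, map_zero, one_mul, sub_zero]; exact hb⟩
  obtain ⟨a, s, hs, h⟩ := h2
  obtain ⟨a', s', hs', h'⟩ := h3
  have ha : algebraMap A B a ∉ q := fun hq => by
    have : algebraMap A B s * b ^ 2 ∈ q := by simpa using add_mem h hq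
    rcases Ideal.IsPrime.mem_or_mem ‹_› this with hh | hh
    · exact hs hh
    · exact hb (Ideal.IsPrime.mem_of_pow_mem ‹_› 2 hh)
  refine ⟨s * a', s' * a, ?_, ?_⟩
  · rw [map_mul]; exact fun hq => (Ideal.IsPrime.mem_or_mem ‹_› hq).elim hs' ha
  · have := add_mem (q.mul_mem_left (algebraMap A B s) h')
      (q.mul_mem_left (-(algebraMap A B s' * b)) h)
    convert this using 1
    simp only [map_mul]; ring

/-- Elements on which two maps of algebras into a field agree form a subalgebra closed under the
elementary steps. -/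
theorem eq_of_sq_cube {K : Type u} [Field K] {x y : K} (h2 : x ^ 2 = y ^ 2) (h3 : x ^ 3 = y ^ 3) :
    x = y :=
  WN.eq_of_sq_eq_of_cube_eq h2 h3

theorem eq_of_prime {K : Type u} [Field K] {p : ℕ} (hp : p.Prime) {x y : K}
    (h1 : x ^ p = y ^ p) (h2 : (p : K) * x = (p : K) * y) : x = y :=
  WN.eq_of_pow_prime_eq hp h1 h2

/-- Radicial homeomorphism from generators. -/
theorem isRadHomeo_of_adjoin (S : Set B) (hS : Algebra.adjoin A S = ⊤)
    (hker : RingHom.ker (algebraMap A B) ≤ nilradical A) (hint : ∀ s ∈ S, IsIntegral A s)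
    (hrad : ∀ (K : Type u) [Field K] (g₁ g₂ : B →+* K),
      g₁.comp (algebraMap A B) = g₂.comp (algebraMap A B) → ∀ s ∈ S, g₁ s = g₂ s) :
    IsRadHomeo (algebraMap A B) := by
  have hi : (algebraMap A B).IsIntegral := fun b => by
    have : Algebra.adjoin A S ≤ integralClosure A B := Algebra.adjoin_le fun s hs => hint s hs
    exact this (hS ▸ Algebra.mem_top)
  refine ⟨hi, surj_of_isIntegral_of_ker_le hi hker, fun K _ g₁ g₂ h => RingHom.ext fun b => ?_⟩
  have hb : b ∈ Algebra.adjoin A S := hS ▸ Algebra.mem_top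
  induction hb using Algebra.adjoin_induction with
  | mem s hs => exact hrad K g₁ g₂ h s hs
  | algebraMap a => exact DFunLike.congr_fun h a
  | add x y _ _ hx hy => rw [map_add, map_add, hx, hy]
  | mul x y _ _ hx hy => rw [map_mul, map_mul, hx, hy]

/-- Trivial residue extensions from generators. -/
theorem hasTrivRes_of_adjoin (S : Set B) (hS : Algebra.adjoin A S = ⊤)
    (h : ∀ (q : Ideal B) [q.IsPrime], ∀ s ∈ S, s ∈ fracSub (A := A) q) :
    HasTrivRes (algebraMap A B) := fun q _ b =>
  (Algebra.adjoin_le (h q) : Algebra.adjoin A S ≤ fracSub q) (hS ▸ Algebra.mem_top)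

theorem mem_fracSub_of_map {C : Type u} [CommRing C] [Algebra A C] (χ : C →ₐ[A] B)
    (hC : HasTrivRes (algebraMap A C)) (q : Ideal B) [q.IsPrime] (c : C) :
    χ c ∈ fracSub (A := A) q := by
  obtain ⟨a, s, hs, h⟩ := hC (q.comap χ.toRingHom) c
  refine ⟨a, s, ?_, ?_⟩
  · simpa [Ideal.mem_comap] using hs
  · simpa [Ideal.mem_comap] using h

/-- Radiciality passes to subalgebras of integral algebras. -/
theorem isRadicial_restrict (hi : (algebraMap A B).IsIntegral)
    (hr : IsRadicial (algebraMap A B)) (D : Subalgebra A B) : IsRadicial (algebraMap A D) := by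
  intro K _ g₁ g₂ hg
  have hi' : D.val.toRingHom.IsIntegral :=
    RingHom.IsIntegral.tower_top (algebraMap A D) _ hi
  have hs' := surj_of_isIntegral_of_ker_le hi' (by
    rw [(RingHom.injective_iff_ker_eq_bot D.val.toRingHom).mp Subtype.coe_injective]; exact bot_le)
  let j := algebraMap K (AlgebraicClosure K)
  obtain ⟨h₁, e₁⟩ := exists_lift_point hi' hs' _ (j.comp g₁)
  obtain ⟨h₂, e₂⟩ := exists_lift_point hi' hs' _ (j.comp g₂)
  have hcomp : D.val.toRingHom.comp (algebraMap A D) = algebraMap A B := rfl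
  have := hr _ h₁ h₂ (by
    rw [← hcomp, ← RingHom.comp_assoc, ← RingHom.comp_assoc, e₁, e₂, RingHom.comp_assoc,
      RingHom.comp_assoc, hg])
  exact RingHom.ext fun x => j.injective (DFunLike.congr_fun (e₁.symm.trans ((congrArg
    (fun k => RingHom.comp k D.val.toRingHom) this).trans e₂)) x)

theorem ker_le_nilradical_of_dominant
    [IsDominant (Spec.map (CommRingCat.ofHom (algebraMap A B)))] :
    RingHom.ker (algebraMap A B) ≤ nilradical A := by
  have h : DenseRange (PrimeSpectrum.comap (algebraMap A B)) :=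
    Scheme.Hom.denseRange (Spec.map (CommRingCat.ofHom (algebraMap A B)))
  exact (PrimeSpectrum.denseRange_comap_iff_ker_le_nilRadical _).mp h

end Groth.Agent.UH
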