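import Groth.Agent.UH.Conductor

/-!
Towers of elementary steps inside an extension.
-/

set_option autoImplicit false

universe u

namespace Groth.Agent.UH

open Groth.Agent.WN

variable {A B : Type u} [CommRing A] [CommRing B] [Algebra A B]

variable (A) in
/-- Each entry is an elementary step over the algebra generated by the earlier ones. -/
def IsTower (P : Subalgebra A B → B → Prop) (l : List B) : Prop :=
  ∀ i : Fin l.length,
    P (Algebra.adjoin A {b : B | ∃ j : Fin l.length, j < i ∧ b = l.get j}) (l.get i)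

/-- The square-cube step. -/
def SCStep (T : Subalgebra A B) (b : B) : Prop := b ^ 2 ∈ T ∧ b ^ 3 ∈ T

/-- The square-cube step or the prime step. -/
def UHStep (T : Subalgebra A B) (b : B) : Prop :=
  (b ^ 2 ∈ T ∧ b ^ 3 ∈ T) ∨ ∃ p : ℕ, p.Prime ∧ (p : B) * b ∈ T ∧ b ^ p ∈ T

theorem scStep_mono {T T' : Subalgebra A B} (h : T ≤ T') {b : B} (hb : SCStep T b) : SCStep T' b :=
  ⟨h hb.1, h hb.2⟩

theorem uhStep_mono {T T' : Subalgebra A B} (h : T ≤ T') {b : B} (hb : UHStep T b) : UHStep T' b :=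
  hb.imp (fun h' => ⟨h h'.1, h h'.2⟩) fun ⟨p, hp, h₁, h₂⟩ => ⟨p, hp, h h₁, h h₂⟩

variable {P : Subalgebra A B → B → Prop}

theorem IsTower.adjoin_le (hP : ∀ {T T' : Subalgebra A B}, T ≤ T' → ∀ {b}, P T b → P T' b)
    {l : List B} (hl : IsTower A P l) (T : Subalgebra A B) (hT : ∀ b, P T b → b ∈ T) :
    Algebra.adjoin A {b : B | b ∈ l} ≤ T := by
  have key : ∀ n, ∀ i : Fin l.length, i.val = n → l.get i ∈ T := by
    intro n
    induction n using Nat.strong_induction_on with
    | _ n ih =>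
      intro i hi
      refine hT _ (hP (Algebra.adjoin_le ?_) (hl i))
      rintro _ ⟨j, hj, rfl⟩
      exact ih j.val (hi ▸ hj) j rfl
  refine Algebra.adjoin_le fun b hb => ?_
  obtain ⟨i, rfl⟩ := List.get_of_mem hb
  exact key _ i rfl

theorem isTower_nil : IsTower A P ([] : List B) := fun i => i.elim0

theorem isTower_append (hP : ∀ {T T' : Subalgebra A B}, T ≤ T' → ∀ {b}, P T b → P T' b)
    {l₁ l₂ : List B} (h₁ : IsTower A P l₁)
    (h₂ : ∀ i : Fin l₂.length, P (Algebra.adjoin A ({b : B | b ∈ l₁} ∪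
      {b : B | ∃ j : Fin l₂.length, j < i ∧ b = l₂.get j})) (l₂.get i)) :
    IsTower A P (l₁ ++ l₂) := by
  rintro ⟨i, hi⟩
  rw [List.length_append] at hi
  by_cases hlt : i < l₁.length
  · have e : (l₁ ++ l₂).get ⟨i, by rw [List.length_append]; exact hi⟩ = l₁.get ⟨i, hlt⟩ := by
      simp [List.getElem_append_left hlt]
    rw [e]
    refine hP (Algebra.adjoin_mono ?_) (h₁ ⟨i, hlt⟩)
    rintro _ ⟨⟨j, hj'⟩, hj, rfl⟩
    refine ⟨⟨j, by rw [List.length_append]; omega⟩, hj, ?_⟩
    simp [List.getElem_append_left hj']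
  · obtain ⟨k, rfl⟩ := Nat.exists_eq_add_of_le (not_lt.mp hlt)
    have hk : k < l₂.length := by omega
    have e : (l₁ ++ l₂).get ⟨l₁.length + k, by rw [List.length_append]; exact hi⟩ =
        l₂.get ⟨k, hk⟩ := by simp [List.getElem_append_right]
    rw [e]
    refine hP (Algebra.adjoin_mono (Set.union_subset ?_ ?_)) (h₂ ⟨k, hk⟩)
    · intro b hb
      obtain ⟨⟨j, hj⟩, rfl⟩ := List.get_of_mem hb
      refine ⟨⟨j, by rw [List.length_append]; omega⟩,
        show j < l₁.length + k by omega, ?_⟩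
      simp [List.getElem_append_left hj]
    · rintro _ ⟨⟨j, hj'⟩, hj, rfl⟩
      refine ⟨⟨l₁.length + j, by rw [List.length_append]; omega⟩,
        show l₁.length + j < l₁.length + k by simpa using hj, ?_⟩
      simp [List.getElem_append_right]

variable (A P) in
/-- The elements reached by towers. -/
def towerSet : Set B := {b | ∃ l, IsTower A P l ∧ b ∈ Algebra.adjoin A {x : B | x ∈ l}}

variable (hP : ∀ {T T' : Subalgebra A B}, T ≤ T' → ∀ {b}, P T b → P T' b)
include hP

theorem exists_tower_of_finite (E : Finset B) (hE : ∀ b ∈ E, b ∈ towerSet A P) :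
    ∃ l, IsTower A P l ∧ (E : Set B) ⊆ Algebra.adjoin A {x : B | x ∈ l} := by
  classical
  induction E using Finset.induction_on with
  | empty => exact ⟨[], isTower_nil, by simp⟩
  | insert b E hb ih =>
    obtain ⟨l₁, h₁, hE₁⟩ := ih fun c hc => hE c (Finset.mem_insert_of_mem hc)
    obtain ⟨l₂, h₂, hb₂⟩ := hE b (Finset.mem_insert_self b E)
    refine ⟨l₁ ++ l₂, isTower_append hP h₁ fun i => hP (Algebra.adjoin_mono Set.subset_union_right)
      (h₂ i), ?_⟩
    rw [Finset.coe_insert, Set.insert_subset_iff]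
    exact ⟨Algebra.adjoin_mono (fun x hx => List.mem_append_right _ hx) hb₂,
      hE₁.trans (Algebra.adjoin_mono fun x hx => List.mem_append_left _ hx)⟩

/-- The elements reached by towers, as a subalgebra. -/
def towerAlg : Subalgebra A B where
  carrier := towerSet A P
  mul_mem' {x y} hx hy := by
    classical
    obtain ⟨l, hl, h⟩ := exists_tower_of_finite hP {x, y} (by simp [hx, hy])
    exact ⟨l, hl, mul_mem (h (by simp)) (h (by simp))⟩
  add_mem' {x y} hx hy := by
    classical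
    obtain ⟨l, hl, h⟩ := exists_tower_of_finite hP {x, y} (by simp [hx, hy])
    exact ⟨l, hl, add_mem (h (by simp)) (h (by simp))⟩
  algebraMap_mem' a := ⟨[], isTower_nil, Subalgebra.algebraMap_mem _ a⟩

/-- A step over finitely many reached elements is reached. -/
theorem mem_towerSet_of_step {b : B} (E : Finset B) (hE : ∀ c ∈ E, c ∈ towerSet A P)
    (hb : ∀ T : Subalgebra A B, (E : Set B) ⊆ T → P T b) : b ∈ towerSet A P := by
  obtain ⟨l, hl, hsub⟩ := exists_tower_of_finite hP E hE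
  refine ⟨l ++ [b], isTower_append hP hl fun i => ?_, Algebra.subset_adjoin (by simp)⟩
  obtain ⟨i, hi⟩ := i
  obtain rfl : i = 0 := by simpa using hi
  exact hP (Algebra.adjoin_mono Set.subset_union_left) (hb _ hsub)

omit hP

theorem isRadHomeo_of_towers (hinj : Function.Injective (algebraMap A B))
    (h : ∀ b : B, b ∈ towerSet A (UHStep (A := A) (B := B))) : IsRadHomeo (algebraMap A B) := by
  refine isRadHomeo_of_adjoin Set.univ (Algebra.adjoin_univ A B) (by
    rw [(RingHom.injective_iff_ker_eq_bot _).mp hinj]; exact bot_le) (fun b _ => ?_)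
    fun K _ g₁ g₂ hg b _ => ?_
  · obtain ⟨l, hl, hb⟩ := h b
    refine hl.adjoin_le uhStep_mono (integralClosure A B) ?_ hb
    rintro c (⟨hc, -⟩ | ⟨p, hp, -, hc⟩)
    · exact IsIntegral.of_pow zero_lt_two hc
    · exact IsIntegral.of_pow hp.pos hc
  · obtain ⟨l, hl, hb⟩ := h b
    let T : Subalgebra A B :=
      { RingHom.eqLocus g₁ g₂ with algebraMap_mem' := fun a => DFunLike.congr_fun hg a }
    refine hl.adjoin_le uhStep_mono T ?_ hb
    rintro c (⟨h₂, h₃⟩ | ⟨p, hp, h₁, h₂⟩)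
    · have h₂ : g₁ (c ^ 2) = g₂ (c ^ 2) := h₂
      have h₃ : g₁ (c ^ 3) = g₂ (c ^ 3) := h₃
      exact eq_of_sq_cube (by rwa [map_pow, map_pow] at h₂) (by rwa [map_pow, map_pow] at h₃)
    · have h₁ : g₁ ((p : B) * c) = g₂ ((p : B) * c) := h₁
      have h₂ : g₁ (c ^ p) = g₂ (c ^ p) := h₂
      exact eq_of_prime hp (by rwa [map_pow, map_pow] at h₂)
        (by rwa [map_mul, map_mul, map_natCast, map_natCast] at h₁)

theorem hasTrivRes_of_towers (h : ∀ b : B, b ∈ towerSet A (SCStep (A := A) (B := B))) :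
    HasTrivRes (algebraMap A B) := fun q _ b => by
  obtain ⟨l, hl, hb⟩ := h b
  exact hl.adjoin_le scStep_mono (fracSub q) (fun c hc => mem_fracSub_of_sq_cube hc.1 hc.2) hb

theorem towerSet_mono {P Q : Subalgebra A B → B → Prop} (h : ∀ T b, P T b → Q T b) :
    towerSet A P ⊆ towerSet A Q :=
  fun _ ⟨l, hl, hb⟩ => ⟨l, fun i => h _ _ (hl i), hb⟩

theorem mem_range_towerAlg {P : Subalgebra A B → B → Prop}
    (hP : ∀ {T T' : Subalgebra A B}, T ≤ T' → ∀ {b}, P T b → P T' b) {b : B}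
    (hb : b ∈ (towerAlg hP).val.toRingHom.range) : b ∈ towerSet A P := by
  obtain ⟨x, rfl⟩ := hb
  exact x.2

theorem isRadHomeo_val (h : IsRadHomeo (algebraMap A B)) (T : Subalgebra A B) :
    IsRadHomeo T.val.toRingHom :=
  IsRadHomeo.cancel (h.restrict T).1 h

theorem towers_of_isRadHomeo (h : IsRadHomeo (algebraMap A B)) (ht : HasTrivRes (algebraMap A B))
    (b : B) : b ∈ towerSet A (SCStep (A := A) (B := B)) := by
  classical
  by_contra hb
  let T := towerAlg (A := A) (B := B) (P := SCStep) scStep_mono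
  have hns : ¬ Function.Surjective T.val.toRingHom := fun hs => hb (by
    obtain ⟨x, rfl⟩ := hs b; exact x.2)
  obtain ⟨c, hc, ⟨x, hx⟩, ⟨y, hy⟩⟩ :=
    exists_sq_cube (isRadHomeo_val h T) (HasTrivRes.cancel (φ := algebraMap A T) ht) hns
  refine hc ⟨⟨c, mem_towerSet_of_step scStep_mono {c ^ 2, c ^ 3} ?_ fun S hS => ?_⟩, rfl⟩
  · simp only [Finset.mem_insert, Finset.mem_singleton, forall_eq_or_imp, forall_eq]
    exact ⟨hx ▸ x.2, hy ▸ y.2⟩
  · exact ⟨hS (by simp), hS (by simp)⟩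

theorem uhTowers_of_isRadHomeo (h : IsRadHomeo (algebraMap A B)) (b : B) :
    b ∈ towerSet A (UHStep (A := A) (B := B)) := by
  classical
  by_contra hb
  let T := towerAlg (A := A) (B := B) (P := UHStep) uhStep_mono
  have hns : ¬ Function.Surjective T.val.toRingHom := fun hs => hb (by
    obtain ⟨x, rfl⟩ := hs b; exact x.2)
  rcases exists_sq_cube_or_prime (isRadHomeo_val h T) hns with
    ⟨c, hc, ⟨x, hx⟩, ⟨y, hy⟩⟩ | ⟨p, c, hp, hc, ⟨x, hx⟩, ⟨y, hy⟩⟩
  · refine hc ⟨⟨c, mem_towerSet_of_step uhStep_mono {c ^ 2, c ^ 3} ?_ fun S hS => ?_⟩, rfl⟩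
    · simp only [Finset.mem_insert, Finset.mem_singleton, forall_eq_or_imp, forall_eq]
      exact ⟨hx ▸ x.2, hy ▸ y.2⟩
    · exact Or.inl ⟨hS (by simp), hS (by simp)⟩
  · refine hc ⟨⟨c, mem_towerSet_of_step uhStep_mono {(p : B) * c, c ^ p} ?_ fun S hS => ?_⟩, rfl⟩
    · simp only [Finset.mem_insert, Finset.mem_singleton, forall_eq_or_imp, forall_eq]
      exact ⟨hx ▸ x.2, hy ▸ y.2⟩
    · exact Or.inr ⟨p, hp, hS (by simp), hS (by simp)⟩

end Groth.Agent.UH
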