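import Groth.Agent.UH.Basic

/-!
A proper extension inducing a universal homeomorphism has an elementary step: the local-to-global
argument of `WN.Closed` without reducedness.
-/

set_option autoImplicit false

universe u

namespace Groth.Agent.UH

open Groth.Agent.WN

variable {A C : Type u} [CommRing A] [CommRing C]

/-- No element outside the range has square and cube in the range. -/
def NoSqCube (φ : A →+* C) : Prop :=
  ∀ b : C, b ^ 2 ∈ φ.range → b ^ 3 ∈ φ.range → b ∈ φ.range

/-- No element outside the range has its `p`-th power and `p`-multiple in the range. -/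
def NoPrime (φ : A →+* C) : Prop :=
  ∀ (p : ℕ) (b : C), p.Prime → (p : C) * b ∈ φ.range → b ^ p ∈ φ.range → b ∈ φ.range

theorem mem_range_of_pow' {φ : A →+* C} (hsc : NoSqCube φ) {b : C} (k : ℕ)
    (h : ∀ n, k ≤ n → b ^ n ∈ φ.range) : b ∈ φ.range := by
  induction k with
  | zero => simpa using h 1 (Nat.zero_le _)
  | succ k ih =>
    apply ih
    intro n hn
    rcases Nat.eq_or_lt_of_le hn with rfl | hlt
    · rcases Nat.eq_zero_or_pos k with rfl | hk
      · exact ⟨1, by simp⟩
      · apply hsc <;> rw [← pow_mul] <;> exact h _ (by lia)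
    · exact h n hlt

theorem conductor_isRadical' {φ : A →+* C} (hsc : NoSqCube φ) : (conductor φ).IsRadical := by
  intro b hb c
  obtain ⟨k, hk⟩ := Ideal.mem_radical_iff.mp hb
  refine mem_range_of_pow' hsc k fun n hn => ?_
  obtain ⟨m, rfl⟩ := Nat.exists_eq_add_of_le hn
  rw [mul_pow, pow_add, mul_assoc]
  exact hk _

/-- The key local-to-global argument. -/
theorem surjective_of_finite_closed {φ : A →+* C} (hfin : φ.Finite)
    (hφ : IsRadHomeo φ) (hsc : NoSqCube φ)
    (hstep : HasTrivRes φ ∨ PStep φ) : Function.Surjective φ := by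
  classical
  let J := conductor φ
  have hJ : J.IsRadical := conductor_isRadical' hsc
  by_contra hns
  have hI : J.comap φ ≠ ⊤ := by
    intro h
    refine hns fun c => ?_
    have := (show φ 1 ∈ J from (h ▸ Submodule.mem_top : (1 : A) ∈ J.comap φ)) c
    rwa [map_one, one_mul] at this
  obtain ⟨p, hp⟩ := Ideal.nonempty_minimalPrimes hI
  have : p.IsPrime := hp.1.1
  obtain ⟨r, hr⟩ := hφ.surj ⟨p, ‹_›⟩
  replace hr : r.asIdeal.comap φ = p := congrArg PrimeSpectrum.asIdeal hr
  let := φ.toAlgebra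
  have : Algebra.IsIntegral A C := ⟨hφ.isIntegral⟩
  have huniq : ∀ r' : Ideal C, r'.IsPrime → r'.comap φ = p → r' = r.asIdeal := fun r' h' e =>
    congrArg PrimeSpectrum.asIdeal (hφ.injective_comap (a₁ := ⟨r', h'⟩) (a₂ := r)
      (PrimeSpectrum.ext (e.trans hr.symm)))
  have hJr : J ≤ r.asIdeal := by
    obtain ⟨Q, hQ, hQp, hQc⟩ := Ideal.exists_ideal_over_prime_of_isIntegral (S := C) p J hp.1.2
    exact hQ.trans_eq (huniq Q hQp hQc)
  have hrmin : r.asIdeal ∈ J.minimalPrimes := by
    refine ⟨⟨r.isPrime, hJr⟩, fun r' h' hle => ?_⟩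
    have : r'.comap φ = p := le_antisymm ((Ideal.comap_mono hle).trans_eq hr)
      (hp.2 ⟨@Ideal.IsPrime.comap _ _ _ _ _ _ φ r' _ h'.1, Ideal.comap_mono h'.2⟩
        ((Ideal.comap_mono hle).trans_eq hr))
    exact (huniq r' h'.1 this).ge
  have hz : ∀ z ∈ r.asIdeal, ∃ t ∉ p, φ t * z ∈ φ.range := by
    intro z hz
    obtain ⟨t, ht, htz⟩ := exists_mul_mem_of_minimal hJ hrmin hz
    have hK : ¬ (J ⊔ Ideal.span {t}).comap φ ≤ p := by
      intro hle
      obtain ⟨Q, hQ, hQp, hQc⟩ := Ideal.exists_ideal_over_prime_of_isIntegral (S := C) p _ hle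
      exact ht (huniq Q hQp hQc ▸ hQ (Ideal.mem_sup_right (Ideal.mem_span_singleton_self t)))
    obtain ⟨a, ha, hap⟩ := SetLike.not_le_iff_exists.mp hK
    obtain ⟨j, hj, w, hw, e⟩ := Submodule.mem_sup.mp (Ideal.mem_comap.mp ha)
    obtain ⟨c, rfl⟩ := Ideal.mem_span_singleton'.mp hw
    refine ⟨a, hap, ?_⟩
    rw [← e, add_mul, mul_assoc]
    have := add_mem (J.mul_mem_right z hj) (J.mul_mem_left c htz) 1
    rwa [mul_one] at this
  have hfrac : ∀ b : C, ∀ a s : A, φ s ∉ r.asIdeal → φ s * b - φ a ∈ r.asIdeal →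
      ∃ t ∉ p, φ t * b ∈ φ.range := by
    intro b a s hs hb
    obtain ⟨t, ht, htb⟩ := hz _ hb
    refine ⟨t * s, fun h => ?_, ?_⟩
    · rcases Ideal.IsPrime.mem_or_mem ‹p.IsPrime› h with h | h
      · exact ht h
      · exact hs (Ideal.mem_comap.mp (hr.symm ▸ h : s ∈ r.asIdeal.comap φ))
    · have := add_mem htb (RingHom.mem_range_self φ (t * a))
      convert this using 1
      simp only [map_mul]; ring
  have hall : ∀ b : C, ∃ t ∉ p, φ t * b ∈ φ.range := by
    intro b
    rcases hstep with h | h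
    · obtain ⟨a, s, hs, hb⟩ := h r.asIdeal b
      exact hfrac b a s hs hb
    · obtain ⟨n, a, s, hs, hb⟩ := hφ.hasPowRes r.asIdeal b
      obtain ⟨t, ht, htb⟩ := hfrac _ a s hs hb
      clear hs hb a s
      rcases expChar_is_prime_or_one (r.asIdeal.comap φ).ResidueField
          (ringExpChar (r.asIdeal.comap φ).ResidueField) with hq | hq
      swap
      · rw [hq, one_pow, pow_one] at htb
        exact ⟨t, ht, htb⟩
      generalize hqdef : ringExpChar (r.asIdeal.comap φ).ResidueField = q at hq htb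
      have hqp : (q : A) ∈ p := by
        rw [← hr, ← Ideal.algebraMap_residueField_eq_zero, map_natCast]
        have : ExpChar (r.asIdeal.comap φ).ResidueField q := ringExpChar.of_eq hqdef
        cases this with
        | zero => exact absurd hq Nat.not_prime_one
        | prime _ => exact CharP.cast_eq_zero _ q
      induction n generalizing b t with
      | zero => exact ⟨t, ht, by simpa using htb⟩
      | succ n ih =>
        obtain ⟨s, hs, hsb⟩ := h p q hq hqp (b ^ q ^ n) t ht (by rwa [← pow_mul, ← pow_succ])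
          (hz _ (r.asIdeal.mul_mem_right _ (by
            have := (Ideal.mem_comap.mp (hr.symm ▸ hqp : (q : A) ∈ r.asIdeal.comap φ))
            rwa [map_natCast] at this)))
        exact ih b s hs hsb
  obtain ⟨G, hG⟩ := (Module.finite_def.mp hfin : (⊤ : Submodule A C).FG)
  choose t ht htG using hall
  refine (fun h : ∏ g ∈ G, t g ∈ p =>
    (Ideal.IsPrime.prod_mem_iff.mp h).elim fun g hg => ht g hg.2) (hp.1.2 ?_)
  intro c
  have hc : c ∈ Submodule.span A (G : Set C) := hG.symm ▸ Submodule.mem_top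
  induction hc using Submodule.span_induction with
  | mem g hg =>
    rw [← Finset.mul_prod_erase G t hg, map_mul, mul_comm (φ (t g)), mul_assoc]
    exact mul_mem (RingHom.mem_range_self _ _) (htG g)
  | zero => rw [mul_zero]; exact zero_mem _
  | add x y _ _ hx hy => rw [mul_add]; exact add_mem hx hy
  | smul a x _ hx =>
    rw [Algebra.smul_def, RingHom.algebraMap_toAlgebra, mul_left_comm]
    exact mul_mem (RingHom.mem_range_self _ _) hx

theorem pStep_of_noPrime {φ : A →+* C} (h : NoPrime φ) : PStep φ := by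
  rintro p _ q hq hqp b t ht ⟨x, hx⟩ ⟨s, hs, ⟨y, hy⟩⟩
  refine ⟨t * s, fun hh => (Ideal.IsPrime.mem_or_mem ‹_› hh).elim ht hs,
    h q _ hq ⟨t * y, ?_⟩ ?_⟩
  · rw [map_mul, hy, map_mul]; ring
  · obtain ⟨m, rfl⟩ := Nat.exists_eq_add_of_lt hq.pos
    simp only [zero_add] at *
    exact ⟨t ^ m * s ^ (m + 1) * x, by rw [map_mul, map_mul, map_mul, map_pow, map_pow, hx]; ring⟩

theorem surjective_of_closed {φ : A →+* C} (hφ : IsRadHomeo φ) (hsc : NoSqCube φ)
    (hstep : HasTrivRes φ ∨ NoPrime φ) : Function.Surjective φ := by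
  intro c
  letI := φ.toAlgebra
  let D := Algebra.adjoin A {c}
  have hfin : (algebraMap A D).Finite := by
    rw [RingHom.finite_algebraMap]
    exact Module.Finite.of_fg (IsIntegral.fg_adjoin_singleton (hφ.isIntegral c))
  obtain ⟨hD, hD'⟩ := IsRadHomeo.restrict (C := C) hφ D
  have hr : ∀ {b : D}, (b : C) ∈ φ.range → b ∈ (algebraMap A D).range := by
    rintro b ⟨a, ha⟩
    exact ⟨a, Subtype.ext ha⟩
  have hr' : ∀ {b : D}, b ∈ (algebraMap A D).range → (b : C) ∈ φ.range := by
    rintro b ⟨a, rfl⟩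
    exact ⟨a, rfl⟩
  have hscD : NoSqCube (algebraMap A D) := fun b h2 h3 => hr (hsc b (hr' h2) (hr' h3))
  obtain ⟨a, ha⟩ := surjective_of_finite_closed hfin hD hscD (hstep.imp hD' fun h =>
    pStep_of_noPrime fun p b hp h1 h2 => hr (h p b hp (by simpa using hr' h1) (hr' h2)))
      ⟨c, Algebra.self_mem_adjoin_singleton A c⟩
  exact ⟨a, congrArg Subtype.val ha⟩

theorem exists_sq_cube {φ : A →+* C} (hφ : IsRadHomeo φ) (ht : HasTrivRes φ)
    (hns : ¬ Function.Surjective φ) :
    ∃ b : C, b ∉ φ.range ∧ b ^ 2 ∈ φ.range ∧ b ^ 3 ∈ φ.range := by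
  by_contra! H
  exact hns (surjective_of_closed hφ (fun b h2 h3 => by_contra fun hb => H b hb h2 h3) (Or.inl ht))

theorem exists_sq_cube_or_prime {φ : A →+* C} (hφ : IsRadHomeo φ)
    (hns : ¬ Function.Surjective φ) :
    (∃ b : C, b ∉ φ.range ∧ b ^ 2 ∈ φ.range ∧ b ^ 3 ∈ φ.range) ∨
      ∃ (p : ℕ) (b : C), p.Prime ∧ b ∉ φ.range ∧ (p : C) * b ∈ φ.range ∧ b ^ p ∈ φ.range := by
  by_contra! H
  exact hns (surjective_of_closed hφ (fun b h2 h3 => by_contra fun hb => H.1 b hb h2 h3)
    (Or.inr fun p b hp h1 h2 => by_contra fun hb => H.2 p b hp hb h1 h2))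

end Groth.Agent.UH
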