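import Groth.Agent.UH.Basic
import Mathlib.RingTheory.AdjoinRoot
import Mathlib.RingTheory.Ideal.Quotient.Operations

/-!
Adjoining one element subject to an elementary relation.
-/

set_option autoImplicit false

universe u

open Polynomial

namespace Groth.Agent.UH

open Groth.Agent.WN

variable {A : Type u} [CommRing A]

theorem adjoin_mk_X (I : Ideal A[X]) :
    Algebra.adjoin A {Ideal.Quotient.mk I X} = (⊤ : Subalgebra A (A[X] ⧸ I)) := by
  rw [eq_top_iff]
  rintro z -
  obtain ⟨P, rfl⟩ := Ideal.Quotient.mk_surjective z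
  rw [Algebra.adjoin_singleton_eq_range_aeval]
  refine ⟨P, ?_⟩
  show aeval (Ideal.Quotient.mkₐ A I X) P = Ideal.Quotient.mkₐ A I P
  rw [aeval_algHom_apply, aeval_X_left_apply]

/-- If every point of `A` in an algebraically closed field lifts to a root of all relations, the
kernel of adjoining a root is nilpotent. -/
theorem ker_le_of_roots (s : Set A[X])
    (h : ∀ (K : Type u) [Field K] [IsAlgClosed K] (g : A →+* K), ∃ t : K, ∀ P ∈ s, eval₂ g t P = 0) :
    RingHom.ker (algebraMap A (A[X] ⧸ Ideal.span s)) ≤ nilradical A := by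
  intro a ha
  rw [nilradical_eq_sInf, Submodule.mem_sInf]
  intro (p : Ideal A) hp
  have : p.IsPrime := hp
  let g : A →+* AlgebraicClosure p.ResidueField :=
    (algebraMap p.ResidueField (AlgebraicClosure p.ResidueField)).comp (algebraMap A p.ResidueField)
  obtain ⟨t, ht⟩ := h _ g
  let χ : A[X] ⧸ Ideal.span s →+* AlgebraicClosure p.ResidueField :=
    Ideal.Quotient.lift (Ideal.span s) (eval₂RingHom g t) fun z hz =>
      (Ideal.span_le.mpr fun P hP => RingHom.mem_ker.mpr (ht P hP) :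
        Ideal.span s ≤ RingHom.ker (eval₂RingHom g t)) hz
  have h0 : χ (algebraMap A _ a) = g a := by
    rw [IsScalarTower.algebraMap_apply A A[X] (A[X] ⧸ Ideal.span s)]
    show eval₂RingHom g t (C a) = g a
    rw [coe_eval₂RingHom, eval₂_C]
  rw [RingHom.mem_ker.mp ha, map_zero] at h0
  have : algebraMap A p.ResidueField a = 0 :=
    (algebraMap p.ResidueField (AlgebraicClosure p.ResidueField)).injective (h0.symm.trans (map_zero _).symm)
  rwa [Ideal.algebraMap_residueField_eq_zero] at this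

theorem mk_X_pow {I : Ideal A[X]} {n : ℕ} {a : A} (h : X ^ n - C a ∈ I) :
    (Ideal.Quotient.mk I X) ^ n = algebraMap A (A[X] ⧸ I) a := by
  rw [← map_pow, IsScalarTower.algebraMap_apply A A[X] (A[X] ⧸ I)]
  exact Ideal.Quotient.eq.mpr h

theorem sq_cube_step (x y : A) (h : x ^ 3 = y ^ 2) :
    IsRadHomeo (algebraMap A (A[X] ⧸ Ideal.span ({X ^ 2 - C x, X ^ 3 - C y} : Set A[X]))) ∧
    HasTrivRes (algebraMap A (A[X] ⧸ Ideal.span ({X ^ 2 - C x, X ^ 3 - C y} : Set A[X]))) := by
  let R := A[X] ⧸ Ideal.span ({X ^ 2 - C x, X ^ 3 - C y} : Set A[X])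
  let τ : R := Ideal.Quotient.mk _ X
  have e2 : τ ^ 2 = algebraMap A R x := mk_X_pow (Ideal.subset_span (Set.mem_insert _ _))
  have e3 : τ ^ 3 = algebraMap A R y :=
    mk_X_pow (Ideal.subset_span (Set.mem_insert_of_mem _ rfl))
  refine ⟨isRadHomeo_of_adjoin {τ} (adjoin_mk_X _) (ker_le_of_roots _ fun K _ _ g => ?_) ?_ ?_,
    hasTrivRes_of_adjoin {τ} (adjoin_mk_X _) ?_⟩
  · by_cases hx : g x = 0
    · have hy : g y = 0 := by
        have : g y ^ 2 = 0 := by rw [← map_pow, ← h, map_pow, hx, zero_pow three_ne_zero]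
        exact pow_eq_zero_iff two_ne_zero |>.mp this
      exact ⟨0, by rintro P (rfl | rfl) <;> simp [hx, hy]⟩
    · have hg : g y ^ 2 = g x ^ 3 := by rw [← map_pow, ← map_pow, h]
      refine ⟨g y / g x, ?_⟩
      rintro P (rfl | rfl) <;> simp only [eval₂_sub, eval₂_pow, eval₂_X, eval₂_C, sub_eq_zero, div_pow]
      · rw [hg, div_eq_iff (pow_ne_zero 2 hx)]; ring
      · rw [div_eq_iff (pow_ne_zero 3 hx), ← hg]; ring
  · rintro _ rfl
    exact IsIntegral.of_pow zero_lt_two (e2 ▸ isIntegral_algebraMap)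
  · rintro K _ g₁ g₂ hg _ rfl
    change g₁ τ = g₂ τ
    refine eq_of_sq_cube ?_ ?_ <;> rw [← map_pow g₁, ← map_pow g₂]
    · rw [e2]; exact DFunLike.congr_fun hg x
    · rw [e3]; exact DFunLike.congr_fun hg y
  · rintro q _ _ rfl
    refine mem_fracSub_of_sq_cube ?_ ?_
    · rw [e2]; exact Subalgebra.algebraMap_mem _ _
    · rw [e3]; exact Subalgebra.algebraMap_mem _ _

theorem prime_step (p : ℕ) (hp : p.Prime) (x y : A) (h : (p : A) ^ p * x = y ^ p) :
    IsRadHomeo (algebraMap A (A[X] ⧸ Ideal.span ({X ^ p - C x, C (p : A) * X - C y} : Set A[X]))) := by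
  let R := A[X] ⧸ Ideal.span ({X ^ p - C x, C (p : A) * X - C y} : Set A[X])
  let τ : R := Ideal.Quotient.mk _ X
  have e1 : τ ^ p = algebraMap A R x := mk_X_pow (Ideal.subset_span (Set.mem_insert _ _))
  have e2 : (p : R) * τ = algebraMap A R y := by
    rw [IsScalarTower.algebraMap_apply A A[X] R, ← map_natCast (Ideal.Quotient.mk _) p, ← map_mul]
    refine Ideal.Quotient.eq.mpr (Ideal.subset_span (Set.mem_insert_of_mem _ ?_))
    rw [Set.mem_singleton_iff, map_natCast]
    rfl
  refine isRadHomeo_of_adjoin {τ} (adjoin_mk_X _) (ker_le_of_roots _ fun K _ _ g => ?_) ?_ ?_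
  · have hgy : (p : K) ^ p * g x = g y ^ p := by
      rw [← map_natCast g, ← map_pow, ← map_mul, h, map_pow]
    by_cases hp0 : (p : K) = 0
    · obtain ⟨t, ht⟩ := IsAlgClosed.exists_pow_nat_eq (g x) hp.pos
      have hy : g y = 0 := by
        rw [hp0, zero_pow hp.ne_zero, zero_mul] at hgy
        exact pow_eq_zero_iff hp.ne_zero |>.mp hgy.symm
      exact ⟨t, by rintro P (rfl | rfl) <;> simp [ht, hp0, hy]⟩
    · refine ⟨g y / (p : K), ?_⟩
      rintro P (rfl | rfl) <;>
        simp only [eval₂_sub, eval₂_pow, eval₂_mul, eval₂_X, eval₂_C, map_natCast, eval₂_natCast,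
          sub_eq_zero]
      · rw [div_pow, div_eq_iff (pow_ne_zero _ hp0), ← hgy]; ring
      · rw [mul_div_cancel₀ _ hp0]
  · rintro _ rfl
    exact IsIntegral.of_pow hp.pos (e1 ▸ isIntegral_algebraMap)
  · rintro K _ g₁ g₂ hg _ rfl
    change g₁ τ = g₂ τ
    refine eq_of_prime hp ?_ ?_
    · rw [← map_pow g₁, ← map_pow g₂, e1]; exact DFunLike.congr_fun hg x
    · rw [← map_natCast g₁, ← map_mul, e2, map_natCast g₁, ← map_natCast g₂, ← map_mul, e2]
      exact DFunLike.congr_fun hg y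

end Groth.Agent.UH
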