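import Groth.Agent.UH.Basic
import Mathlib.Algebra.Category.Ring.FilteredColimits
import Mathlib.Algebra.Category.Ring.Under.Basic
import Mathlib.CategoryTheory.Limits.Preserves.Over
import Mathlib.CategoryTheory.Limits.Constructions.Over.Connected
import Mathlib.CategoryTheory.Limits.Types.Filtered

/-!
Filtered colimits of algebras: integrality, radiciality, nilpotent kernels and trivial residue
extensions pass to the colimit.
-/

set_option autoImplicit false

universe u

open CategoryTheory CategoryTheory.Limits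

namespace Groth.Agent.UH

open Groth.Agent.WN

variable {A : CommRingCat.{u}} {J : Type u} [SmallCategory J] [IsFiltered J] {F : J ⥤ Under A}
  {c : Cocone F} (hc : IsColimit c)

include hc

theorem colim_mem (x : c.pt.right) : ∃ (j : J) (y : (F.obj j).right), (c.ι.app j).right y = x := by
  let G : Under A ⥤ Type u := Under.forget A ⋙ forget CommRingCat.{u}
  have : IsConnected J := IsFiltered.isConnected _
  have : PreservesColimitsOfShape J G := inferInstance
  exact Types.jointly_surjective_of_isColimit (isColimitOfPreserves G hc) x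

theorem colim_ker {j : J} (y : (F.obj j).right) (h : (c.ι.app j).right y = 0) :
    ∃ (k : J) (f : j ⟶ k), (F.map f).right y = 0 := by
  let G : Under A ⥤ Type u := Under.forget A ⋙ forget CommRingCat.{u}
  have : IsConnected J := IsFiltered.isConnected _
  have : PreservesColimitsOfShape J G := inferInstance
  let z : (F.obj j).right := 0
  have h' : (c.ι.app j).right y = (c.ι.app j).right z := h.trans (map_zero (c.ι.app j).right.hom).symm
  obtain ⟨k, f, hk⟩ := (Types.FilteredColimit.isColimit_eq_iff' (isColimitOfPreserves G hc)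
    (i := j) y z).mp h' 
  exact ⟨k, f, hk.trans (map_zero (F.map f).right.hom)⟩

omit hc in
theorem colim_w (j : J) (a : A) : (c.ι.app j).right ((F.obj j).hom a) = c.pt.hom a :=
  congr($(Under.w (c.ι.app j)) a)

theorem colim_isIntegral (h : ∀ j, (F.obj j).hom.hom.IsIntegral) : c.pt.hom.hom.IsIntegral := by
  intro x
  obtain ⟨j, y, rfl⟩ := colim_mem hc x
  obtain ⟨P, hP, hP0⟩ := h j y
  refine ⟨P, hP, ?_⟩
  have e : c.pt.hom.hom = (c.ι.app j).right.hom.comp (F.obj j).hom.hom :=
    RingHom.ext fun a => (colim_w j a).symm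
  rw [e, ← Polynomial.hom_eval₂]
  exact (congrArg _ hP0).trans (map_zero _)

theorem colim_isRadicial (h : ∀ j, IsRadicial (F.obj j).hom.hom) : IsRadicial c.pt.hom.hom := by
  intro K _ g₁ g₂ hg
  refine RingHom.ext fun x => ?_
  obtain ⟨j, y, rfl⟩ := colim_mem hc x
  exact DFunLike.congr_fun (h j K (g₁.comp (c.ι.app j).right.hom) (g₂.comp (c.ι.app j).right.hom)
    (RingHom.ext fun a => by
      show g₁ ((c.ι.app j).right ((F.obj j).hom a)) = g₂ ((c.ι.app j).right ((F.obj j).hom a))
      rw [colim_w]; exact DFunLike.congr_fun hg a)) y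

theorem colim_ker_le (h : ∀ j, RingHom.ker (F.obj j).hom.hom ≤ nilradical A) :
    RingHom.ker c.pt.hom.hom ≤ nilradical A := by
  intro a ha
  obtain ⟨j⟩ := IsFiltered.nonempty (C := J)
  obtain ⟨k, f, hk⟩ := colim_ker hc ((F.obj j).hom a) ((colim_w j a).trans ha)
  refine h k ?_
  rw [RingHom.mem_ker]
  exact (congr($(Under.w (F.map f)) a)).symm.trans hk

theorem colim_isRadHomeo (h : ∀ j, IsRadHomeo (F.obj j).hom.hom) : IsRadHomeo c.pt.hom.hom :=
  ⟨colim_isIntegral hc fun j => (h j).isIntegral,
    surj_of_isIntegral_of_ker_le (colim_isIntegral hc fun j => (h j).isIntegral)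
      (colim_ker_le hc fun j => ker_le_nilradical_of_surj (h j).surj),
    colim_isRadicial hc fun j => (h j).radicial⟩

theorem colim_hasTrivRes (h : ∀ j, HasTrivRes (F.obj j).hom.hom) : HasTrivRes c.pt.hom.hom := by
  intro q _ x
  obtain ⟨j, y, rfl⟩ := colim_mem hc x
  obtain ⟨a, s, hs, hy⟩ := h j (q.comap (c.ι.app j).right.hom) y
  refine ⟨a, s, ?_, ?_⟩
  · rw [Ideal.mem_comap] at hs
    exact fun hq => hs ((colim_w j s).symm ▸ hq)
  · rw [Ideal.mem_comap, map_sub, map_mul] at hy
    erw [colim_w, colim_w] at hy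
    exact hy

end Groth.Agent.UH
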