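import Groth.Agent.UH.Basic

/-!
The largest subalgebra with universal homeomorphism on spectra.
-/

set_option autoImplicit false

universe u

namespace Groth.Agent.UH

open Groth.Agent.WN

variable (A B : Type u) [CommRing A] [CommRing B] [Algebra A B] (sn : Prop)

/-- Elements coming from algebras with universal homeomorphism on spectra. -/
def relSet : Set B :=
  {b | ∃ (C : Type u) (_ : CommRing C) (_ : Algebra A C), IsRadHomeo (algebraMap A C) ∧
    (sn → HasTrivRes (algebraMap A C)) ∧ ∃ g : C →ₐ[A] B, b ∈ g.range}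

variable {A B sn}

theorem good_adjoin_relSet (hker : RingHom.ker (algebraMap A B) ≤ nilradical A) :
    IsRadHomeo (algebraMap A (Algebra.adjoin A (relSet A B sn))) ∧
      (sn → HasTrivRes (algebraMap A (Algebra.adjoin A (relSet A B sn)))) := by
  let D := Algebra.adjoin A (relSet A B sn)
  let S : Set D := (fun d : D => (d : B)) ⁻¹' relSet A B sn
  have hS : Algebra.adjoin A S = ⊤ := Algebra.adjoin_adjoin_coe_preimage
  have hlift : ∀ d ∈ S, ∃ (C : Type u) (_ : CommRing C) (_ : Algebra A C),
      IsRadHomeo (algebraMap A C) ∧ (sn → HasTrivRes (algebraMap A C)) ∧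
        ∃ g : C →ₐ[A] D, d ∈ g.range := by
    rintro d ⟨C, _, _, hC, hC', g, c, hc⟩
    have hle : ∀ x, g x ∈ D := fun x =>
      Algebra.subset_adjoin ⟨C, inferInstance, inferInstance, hC, hC', g, ⟨x, rfl⟩⟩
    exact ⟨C, inferInstance, inferInstance, hC, hC', g.codRestrict D hle, c, Subtype.ext hc⟩
  refine ⟨isRadHomeo_of_adjoin S hS (fun a ha => hker ?_) ?_ ?_,
    fun hsn => hasTrivRes_of_adjoin S hS ?_⟩
  · exact congrArg Subtype.val (RingHom.mem_ker.mp ha)
  · intro d hd
    obtain ⟨C, _, _, hC, -, g, c, rfl⟩ := hlift d hd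
    exact IsIntegral.map g (hC.isIntegral c : IsIntegral A c)
  · intro K _ g₁ g₂ hg d hd
    obtain ⟨C, _, _, hC, -, g, c, rfl⟩ := hlift d hd
    exact DFunLike.congr_fun (hC.radicial K (g₁.comp g.toRingHom) (g₂.comp g.toRingHom)
      (RingHom.ext fun a => by simpa using DFunLike.congr_fun hg a)) c
  · intro q _ d hd
    obtain ⟨C, _, _, -, hC, g, c, rfl⟩ := hlift d hd
    exact mem_fracSub_of_map g (hC hsn) q c

theorem range_le_adjoin_relSet {C : Type u} [CommRing C] [Algebra A C] (g : C →ₐ[A] B)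
    (hC : IsRadHomeo (algebraMap A C)) (hC' : sn → HasTrivRes (algebraMap A C)) :
    g.range ≤ Algebra.adjoin A (relSet A B sn) := fun _ hb =>
  Algebra.subset_adjoin ⟨C, inferInstance, inferInstance, hC, hC', g, hb⟩

end Groth.Agent.UH
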