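import Groth.Agent.UH.Conductor
import Groth.Agent.IndAlg.Basic
import Mathlib.RingTheory.FinitePresentation
import Mathlib.RingTheory.TensorProduct.Maps

/-!
Finitely presented algebras with universal homeomorphism on spectra approximating a given one.
-/

set_option autoImplicit false

universe u

open Polynomial
open scoped TensorProduct

namespace Groth.Agent.UH

open Groth.Agent.WN

variable {A B : Type u} [CommRing A] [CommRing B] [Algebra A B]

variable (A) in
/-- Finitely presented with universal homeomorphism on spectra. -/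
def IsModel (E : Type u) [CommRing E] [Algebra A E] : Prop :=
  Algebra.FinitePresentation A E ∧ IsRadHomeo (algebraMap A E)

variable (A B) in
/-- Elements of `B` in the image of a model. -/
def modelSet : Set B :=
  {b | ∃ (E : Type u) (_ : CommRing E) (_ : Algebra A E),
    IsModel A E ∧ ∃ w : E →ₐ[A] B, b ∈ w.range}

theorem ker_le_of_algHom (hA : RingHom.ker (algebraMap A B) ≤ nilradical A) {E : Type u}
    [CommRing E] [Algebra A E] (w : E →ₐ[A] B) :
    RingHom.ker (algebraMap A E) ≤ nilradical A := fun a ha => hA (by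
  rw [RingHom.mem_ker, ← w.commutes, RingHom.mem_ker.mp ha, map_zero])

variable (hA : RingHom.ker (algebraMap A B) ≤ nilradical A)
include hA

/-- The tensor product of two models over `B` is a model. -/
theorem isModel_tensor {E E' : Type u} [CommRing E] [Algebra A E] [CommRing E'] [Algebra A E']
    (hE : IsModel A E) (hE' : IsModel A E') (w : E →ₐ[A] B) (w' : E' →ₐ[A] B) :
    IsModel A (E ⊗[A] E') := by
  obtain ⟨hfp, hr⟩ := hE
  obtain ⟨hfp', hr'⟩ := hE'
  refine ⟨Algebra.FinitePresentation.trans A E (E ⊗[A] E'),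
    isRadHomeo_of_adjoin
      (((Algebra.TensorProduct.includeLeft : E →ₐ[A] E ⊗[A] E').range : Set (E ⊗[A] E')) ∪
        ((Algebra.TensorProduct.includeRight : E' →ₐ[A] E ⊗[A] E').range : Set (E ⊗[A] E')))
      ?_ (ker_le_of_algHom hA (Algebra.TensorProduct.productMap w w')) ?_ ?_⟩
  · rw [eq_top_iff]
    rintro z -
    induction z using TensorProduct.induction_on with
    | zero => exact zero_mem _
    | add x y hx hy => exact add_mem hx hy
    | tmul x y =>
      have h : x ⊗ₜ[A] y = (x ⊗ₜ[A] (1 : E')) * ((1 : E) ⊗ₜ[A] y) := by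
        rw [Algebra.TensorProduct.tmul_mul_tmul, mul_one, one_mul]
      rw [h]
      exact mul_mem (Algebra.subset_adjoin (Or.inl ⟨x, rfl⟩))
        (Algebra.subset_adjoin (Or.inr ⟨y, rfl⟩))
  · rintro _ (⟨x, rfl⟩ | ⟨x, rfl⟩)
    · exact IsIntegral.map Algebra.TensorProduct.includeLeft (hr.isIntegral x : IsIntegral A x)
    · exact IsIntegral.map Algebra.TensorProduct.includeRight (hr'.isIntegral x : IsIntegral A x)
  · rintro K _ g₁ g₂ hg _ (⟨x, rfl⟩ | ⟨x, rfl⟩)
    · exact DFunLike.congr_fun (hr.radicial K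
        (g₁.comp (Algebra.TensorProduct.includeLeft : E →ₐ[A] E ⊗[A] E').toRingHom)
        (g₂.comp (Algebra.TensorProduct.includeLeft : E →ₐ[A] E ⊗[A] E').toRingHom)
        (RingHom.ext fun a => by simpa using DFunLike.congr_fun hg a)) x
    · exact DFunLike.congr_fun (hr'.radicial K
        (g₁.comp (Algebra.TensorProduct.includeRight : E' →ₐ[A] E ⊗[A] E').toRingHom)
        (g₂.comp (Algebra.TensorProduct.includeRight : E' →ₐ[A] E ⊗[A] E').toRingHom)
        (RingHom.ext fun a => by simpa using DFunLike.congr_fun hg a)) x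

theorem exists_model_of_finite (hA1 : IsModel A A) (S : Finset B)
    (hS : ∀ b ∈ S, b ∈ modelSet A B) :
    ∃ (E : Type u) (_ : CommRing E) (_ : Algebra A E),
      IsModel A E ∧ ∃ w : E →ₐ[A] B, (S : Set B) ⊆ w.range := by
  classical
  induction S using Finset.induction_on with
  | empty => exact ⟨A, inferInstance, inferInstance, hA1, Algebra.ofId A B, by simp⟩
  | insert b S hb ih =>
    obtain ⟨E, _, _, hE, w, hw⟩ := ih fun c hc => hS c (Finset.mem_insert_of_mem hc)
    obtain ⟨E', _, _, hE', w', hw'⟩ := hS b (Finset.mem_insert_self b S)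
    refine ⟨E ⊗[A] E', inferInstance, inferInstance, isModel_tensor hA hE hE' w w',
      Algebra.TensorProduct.productMap w w', ?_⟩
    rw [Algebra.TensorProduct.productMap_range, Finset.coe_insert, Set.insert_subset_iff]
    exact ⟨(le_sup_right : w'.range ≤ w.range ⊔ w'.range) hw',
      hw.trans (le_sup_left : w.range ≤ w.range ⊔ w'.range)⟩

/-- A model quotient by finitely many elements killed in `B` is a model. -/
theorem isModel_quotient {E : Type u} [CommRing E] [Algebra A E] (hE : IsModel A E)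
    (w : E →ₐ[A] B) (I : Ideal E) (hI : I.FG) (hIw : I ≤ RingHom.ker w) :
    IsModel A (E ⧸ I) := by
  obtain ⟨hfp, hr⟩ := hE
  refine ⟨Algebra.FinitePresentation.quotient hI,
    isRadHomeo_of_adjoin Set.univ (Algebra.adjoin_univ A _)
      (ker_le_of_algHom hA (Ideal.Quotient.liftₐ I w fun a ha => hIw ha)) ?_ ?_⟩
  · rintro z -
    obtain ⟨x, rfl⟩ := Ideal.Quotient.mk_surjective z
    exact IsIntegral.map (Ideal.Quotient.mkₐ A I) (hr.isIntegral x : IsIntegral A x)
  · rintro K _ g₁ g₂ hg z -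
    obtain ⟨x, rfl⟩ := Ideal.Quotient.mk_surjective z
    exact DFunLike.congr_fun (hr.radicial K (g₁.comp (Ideal.Quotient.mk I))
      (g₂.comp (Ideal.Quotient.mk I))
      (RingHom.ext fun a => DFunLike.congr_fun hg a)) x

/-- Adjoining one element of `B` to a model along relations `s` which make it integral and
radicial. -/
theorem mem_modelSet_of_relations {E : Type u} [CommRing E] [Algebra A E] (hE : IsModel A E)
    (w : E →ₐ[A] B) (b : B) (s : Finset E[X]) (hs : ∀ P ∈ s, eval₂ w.toRingHom b P = 0)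
    (n : ℕ) (hn : 0 < n) (e : E) (hP : X ^ n - C e ∈ s)
    (hrad : ∀ (K : Type u) [Field K] (g : E →+* K) (x y : K),
      (∀ P ∈ s, eval₂ g x P = 0) → (∀ P ∈ s, eval₂ g y P = 0) → x = y) :
    b ∈ modelSet A B := by
  obtain ⟨hfp, hr⟩ := hE
  let I : Ideal E[X] := Ideal.span (s : Set E[X])
  let q : E[X] →ₐ[A] E[X] ⧸ I := Ideal.Quotient.mkₐ A I
  let ev : E[X] →ₐ[A] B :=
    { Polynomial.eval₂RingHom w.toRingHom b with
      commutes' := fun a => by simp [IsScalarTower.algebraMap_apply A E E[X]] }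
  have hev : I ≤ RingHom.ker ev := Ideal.span_le.mpr fun P hP => hs P hP
  let W : E[X] ⧸ I →ₐ[A] B := Ideal.Quotient.liftₐ I ev fun a ha => hev ha
  let ι : E →ₐ[A] E[X] ⧸ I := q.comp (IsScalarTower.toAlgHom A E E[X])
  let τ : E[X] ⧸ I := q X
  have hfpX : Algebra.FinitePresentation A E[X] := Algebra.FinitePresentation.trans A E E[X]
  refine ⟨E[X] ⧸ I, inferInstance, inferInstance, ⟨Algebra.FinitePresentation.quotient ⟨s, rfl⟩,
    isRadHomeo_of_adjoin (insert τ (ι.range : Set (E[X] ⧸ I))) ?_ (ker_le_of_algHom hA W) ?_ ?_⟩,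
    W, τ, ?_⟩
  · rw [eq_top_iff]
    rintro z -
    obtain ⟨P, rfl⟩ := Ideal.Quotient.mk_surjective z
    show q P ∈ _
    induction P using Polynomial.induction_on' with
    | add P Q hP hQ => rw [map_add]; exact add_mem hP hQ
    | monomial k c =>
      rw [← C_mul_X_pow_eq_monomial, map_mul, map_pow]
      exact mul_mem (Algebra.subset_adjoin (Set.mem_insert_of_mem _ ⟨c, rfl⟩))
        (pow_mem (Algebra.subset_adjoin (Set.mem_insert _ _)) k)
  · rintro _ (rfl | ⟨x, rfl⟩)
    · refine IsIntegral.of_pow hn ?_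
      have : τ ^ n = ι e := by
        rw [← map_pow]
        exact Ideal.Quotient.eq.mpr (Ideal.subset_span hP)
      rw [this]
      exact IsIntegral.map ι (hr.isIntegral e : IsIntegral A e)
    · exact IsIntegral.map ι (hr.isIntegral x : IsIntegral A x)
  · intro K _ g₁ g₂ hg
    have hι : g₁.comp ι.toRingHom = g₂.comp ι.toRingHom := hr.radicial K _ _
      (RingHom.ext fun a => by simpa using DFunLike.congr_fun hg a)
    rintro _ (rfl | ⟨x, rfl⟩)
    · have hroot : ∀ (g : E[X] ⧸ I →+* K), ∀ P ∈ s, eval₂ (g.comp ι.toRingHom) (g τ) P = 0 := by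
        intro g P hP'
        have h1 : eval₂RingHom (g.comp ι.toRingHom) (g τ) = g.comp q.toRingHom :=
          Polynomial.ringHom_ext (fun a => by simp [ι, q]) (by simp [τ])
        have h2 : q P = 0 := Ideal.Quotient.eq_zero_iff_mem.mpr (Ideal.subset_span hP')
        have := congrArg (fun f : E[X] →+* K => f P) h1
        simpa [h2] using this
      exact hrad K (g₁.comp ι.toRingHom) (g₁ τ) (g₂ τ) (hroot g₁) (hι ▸ hroot g₂)
    · exact DFunLike.congr_fun hι x
  · show Polynomial.eval₂ w.toRingHom b X = b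
    exact eval₂_X _ _

theorem mem_modelSet (h : IsRadHomeo (algebraMap A B)) (b : B) : b ∈ modelSet A B := by
  classical
  have hA1 : IsModel A A := ⟨inferInstance, isRadHomeo_of_adjoin Set.univ (Algebra.adjoin_univ A A)
    (ker_le_of_algHom hA (Algebra.ofId A B)) (fun x _ => isIntegral_algebraMap (x := x))
    fun K _ g₁ g₂ hg x _ => DFunLike.congr_fun hg x⟩
  let T : Subalgebra A B :=
    { carrier := modelSet A B
      mul_mem' := fun {x y} hx hy => by
        obtain ⟨E, _, _, hE, w, hw⟩ := exists_model_of_finite hA hA1 {x, y} (by simp [hx, hy])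
        exact ⟨E, _, _, hE, w, mul_mem (hw (by simp)) (hw (by simp))⟩
      add_mem' := fun {x y} hx hy => by
        obtain ⟨E, _, _, hE, w, hw⟩ := exists_model_of_finite hA hA1 {x, y} (by simp [hx, hy])
        exact ⟨E, _, _, hE, w, add_mem (hw (by simp)) (hw (by simp))⟩
      algebraMap_mem' := fun a =>
        ⟨A, inferInstance, inferInstance, hA1, Algebra.ofId A B, a, rfl⟩ }
  by_contra hb
  have hns : ¬ Function.Surjective T.val.toRingHom := fun hs => hb (by
    obtain ⟨x, rfl⟩ := hs b; exact x.2)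
  rcases exists_sq_cube_or_prime (IsRadHomeo.cancel (h.restrict T).1 h : IsRadHomeo T.val.toRingHom)
      hns with ⟨c, hc, ⟨x, hx⟩, ⟨y, hy⟩⟩ | ⟨p, c, hp, hc, ⟨x, hx⟩, ⟨y, hy⟩⟩
  · obtain ⟨E, _, _, hE, w, hw⟩ := exists_model_of_finite hA hA1 {c ^ 2, c ^ 3} (by
      simp only [Finset.mem_insert, Finset.mem_singleton, forall_eq_or_imp, forall_eq]
      exact ⟨hx ▸ x.2, hy ▸ y.2⟩)
    obtain ⟨e₂, h₂⟩ := hw (by simp : c ^ 2 ∈ (({c ^ 2, c ^ 3} : Finset B) : Set B))
    obtain ⟨e₃, h₃⟩ := hw (by simp : c ^ 3 ∈ (({c ^ 2, c ^ 3} : Finset B) : Set B))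
    replace h₂ : w e₂ = c ^ 2 := h₂
    replace h₃ : w e₃ = c ^ 3 := h₃
    refine hc ⟨⟨c, mem_modelSet_of_relations hA hE w c {X ^ 2 - C e₂, X ^ 3 - C e₃} ?_ 2 two_pos e₂
      (by simp) ?_⟩, rfl⟩
    · simp [h₂, h₃]
    · intro K _ g s t hs ht
      simp only [Finset.mem_insert, Finset.mem_singleton, forall_eq_or_imp, forall_eq, eval₂_sub,
        eval₂_pow, eval₂_X, eval₂_C, sub_eq_zero] at hs ht
      exact eq_of_sq_cube (hs.1.trans ht.1.symm) (hs.2.trans ht.2.symm)
  · obtain ⟨E, _, _, hE, w, hw⟩ := exists_model_of_finite hA hA1 {(p : B) * c, c ^ p} (by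
      simp only [Finset.mem_insert, Finset.mem_singleton, forall_eq_or_imp, forall_eq]
      exact ⟨hx ▸ x.2, hy ▸ y.2⟩)
    obtain ⟨e₁, h₁⟩ := hw (by simp : (p : B) * c ∈ (({(p : B) * c, c ^ p} : Finset B) : Set B))
    obtain ⟨e₂, h₂⟩ := hw (by simp : c ^ p ∈ (({(p : B) * c, c ^ p} : Finset B) : Set B))
    replace h₁ : w e₁ = (p : B) * c := h₁
    replace h₂ : w e₂ = c ^ p := h₂
    refine hc ⟨⟨c, mem_modelSet_of_relations hA hE w c {X ^ p - C e₂, (p : E[X]) * X - C e₁} ?_ p
      hp.pos e₂ (by simp) ?_⟩, rfl⟩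
    · simp [h₁, h₂]
    · intro K _ g s t hs ht
      simp only [Finset.mem_insert, Finset.mem_singleton, forall_eq_or_imp, forall_eq, eval₂_sub,
        eval₂_mul, eval₂_pow, eval₂_X, eval₂_C, eval₂_natCast, sub_eq_zero] at hs ht
      exact eq_of_prime hp (hs.1.trans ht.1.symm) (hs.2.trans ht.2.symm)

theorem fac_model (h : IsRadHomeo (algebraMap A B)) :
    IndAlg.Fac (A := A) (fun E _ _ => IsModel A E) B := by
  classical
  intro Z _ _ hZ g
  have hA1 : IsModel A A := ⟨inferInstance, isRadHomeo_of_adjoin Set.univ (Algebra.adjoin_univ A A)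
    (ker_le_of_algHom hA (Algebra.ofId A B)) (fun x _ => isIntegral_algebraMap (x := x))
    fun K _ g₁ g₂ hg x _ => DFunLike.congr_fun hg x⟩
  obtain ⟨n, f, hf, s, hs⟩ := Algebra.FinitePresentation.out (R := A) (A := Z)
  obtain ⟨E, _, _, hE, w, hw⟩ := exists_model_of_finite hA hA1
    (Finset.univ.image fun k => g (f (MvPolynomial.X k))) fun b _ => mem_modelSet hA h b
  have hk : ∀ k : Fin n, ∃ e : E, w e = g (f (MvPolynomial.X k)) := fun k =>
    hw (Finset.mem_image.mpr ⟨k, Finset.mem_univ _, rfl⟩)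
  choose e he using hk
  let χ : MvPolynomial (Fin n) A →ₐ[A] E := MvPolynomial.aeval e
  have hχ : w.comp χ = g.comp f := MvPolynomial.algHom_ext fun k => by simp [χ, he]
  let I : Ideal E := Ideal.span ((s.image χ : Finset E) : Set E)
  have hI : I.FG := ⟨s.image χ, rfl⟩
  have hker' : RingHom.ker f.toRingHom = Ideal.span (s : Set (MvPolynomial (Fin n) A)) := hs.symm
  have hIw : I ≤ RingHom.ker w := Ideal.span_le.mpr fun z hz => by
    obtain ⟨P, hP, rfl⟩ := Finset.mem_image.mp hz
    rw [SetLike.mem_coe, RingHom.mem_ker]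
    refine (congr($hχ P)).trans ?_
    have hP0 : P ∈ RingHom.ker f.toRingHom := hker' ▸ Ideal.subset_span hP
    rw [AlgHom.comp_apply, show f P = 0 from hP0, map_zero]
  let v₀ : MvPolynomial (Fin n) A →ₐ[A] E ⧸ I := (Ideal.Quotient.mkₐ A I).comp χ
  have hker : RingHom.ker f.toRingHom ≤ RingHom.ker v₀ := by
    rw [hker', Ideal.span_le]
    intro P hP
    exact RingHom.mem_ker.mpr (Ideal.Quotient.eq_zero_iff_mem.mpr
      (Ideal.subset_span (Finset.mem_image_of_mem χ hP)))
  let v : Z →ₐ[A] E ⧸ I := AlgHom.liftOfSurjective f hf v₀ hker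
  refine ⟨E ⧸ I, inferInstance, inferInstance, isModel_quotient hA hE w I hI hIw, v,
    Ideal.Quotient.liftₐ I w fun a ha => hIw ha, ?_⟩
  refine AlgHom.ext fun z => ?_
  obtain ⟨P, rfl⟩ := hf z
  rw [AlgHom.comp_apply, show v (f P) = v₀ P from AlgHom.liftOfSurjective_apply f hf v₀ hker P]
  exact congr($hχ P)

omit hA

theorem isInd_model (h : IsRadHomeo (algebraMap A B)) :
    IndAlg.IsInd (A := A) (fun E _ _ => IsModel A E) B :=
  IndAlg.isInd_of_fac (fun _ _ _ hE => hE.1)
    (fun E E' _ _ _ _ e hE => ⟨(have := hE.1; Algebra.FinitePresentation.equiv e), by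
      have : algebraMap A E' = e.toRingEquiv.toRingHom.comp (algebraMap A E) :=
        RingHom.ext fun a => (e.commutes a).symm
      rw [this]
      exact IsRadHomeo.comp hE.2
        ⟨RingHom.isIntegral_of_surjective _ e.surjective,
          fun q => ⟨PrimeSpectrum.comap e.symm.toRingEquiv.toRingHom q, PrimeSpectrum.ext
            (Ideal.ext fun x => by simp [Ideal.mem_comap])⟩,
          fun K _ g₁ g₂ hg => RingHom.ext fun x => by
            obtain ⟨y, rfl⟩ := e.surjective x
            exact DFunLike.congr_fun hg y⟩⟩)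
    (fac_model (ker_le_nilradical_of_surj h.surj) h)

/-- An algebra between `A` and `B` with universal homeomorphisms has trivial residue extensions if
`B` does. -/
theorem hasTrivRes_of_comp {A E B : Type u} [CommRing A] [CommRing E] [CommRing B] {χ : A →+* E}
    {ψ : E →+* B} {φ : A →+* B} (hE : IsRadHomeo χ) (hB : IsRadHomeo φ) (ht : HasTrivRes φ)
    (hcomp : ψ.comp χ = φ) : HasTrivRes χ := by
  subst hcomp
  intro q _ b
  obtain ⟨Q, hQ⟩ := hB.surj (PrimeSpectrum.comap χ ⟨q, ‹_›⟩)
  have hq : PrimeSpectrum.comap ψ Q = ⟨q, ‹_›⟩ := hE.injective_comap (by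
    rw [← hQ, PrimeSpectrum.comap_comp_apply])
  replace hq : Q.asIdeal.comap ψ = q := congrArg PrimeSpectrum.asIdeal hq
  obtain ⟨a, s, hs, h⟩ := ht Q.asIdeal (ψ b)
  refine ⟨a, s, ?_, ?_⟩ <;> rw [← hq, Ideal.mem_comap]
  · exact hs
  · rw [map_sub, map_mul]; exact h

end Groth.Agent.UH
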